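import Groth.Agent.L20.PicThick
import Groth.Agent.L19.ProjBdl.PullComp
import Groth.Agent.L02.PicTan.Glue

/-!
Descent of torsion invertible modules along homeomorphisms on which `p`-power powers of functions
come from below.
-/

set_option autoImplicit false
set_option linter.style.haveILetI false
set_option backward.isDefEq.respectTransparency.types false
set_option backward.isDefEq.respectTransparency false

universe u

open CategoryTheory AlgebraicGeometry TopologicalSpace Opposite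

noncomputable section

namespace Groth.L02.PicInsep

open Groth.L18.Frame (rs ro rs_rs ro_ro rs_smul ro_self rs_self IsFrame pull pull_smul pull_rs)
open Groth.L18.SecTwistExt (epow epow_smul epow_rs rs_one)
open Groth.L22.PicGlue
open Groth.L20.PicThick (app_ro ro_pow)

variable {X X' : Scheme.{u}} {π : X' ⟶ X}

theorem app_injective (hinj : ∀ U : X.Opens, IsAffineOpen U → Function.Injective (π.app U))
    (U : X.Opens) : Function.Injective (π.app U) := by
  intro a b hab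
  refine Groth.L21.Extend.eq_of_locally (Coh.structureModule X) a b fun y hy => ?_
  obtain ⟨_, ⟨V, hV, rfl⟩, hyV, hVU⟩ :=
    X.isBasis_affineOpens.exists_subset_of_mem_open (show y ∈ U from hy) U.2
  refine ⟨V, hVU, hyV, hinj V hV ?_⟩
  show π.app V (ro (hVU : V ≤ U) a) = π.app V (ro (hVU : V ≤ U) b)
  rw [app_ro, app_ro, hab]

theorem isUnit_of_app (hinj : ∀ U : X.Opens, Function.Injective (π.app U)) {U : X.Opens}
    {t t' : Γ(X, U)} {s : Γ(X', π ⁻¹ᵁ U)} {s' : Γ(X', π ⁻¹ᵁ U)} {k : ℕ} (ht : π.app U t = s ^ k)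
    (ht' : π.app U t' = s' ^ k) (h : s * s' = 1) : IsUnit t :=
  IsUnit.of_mul_eq_one t' (hinj U (by rw [map_mul, ht, ht', ← mul_pow, h, one_pow, map_one]))

variable {p : ℕ}

theorem exists_pow_of_isCompact (hinj : ∀ U : X.Opens, Function.Injective (π.app U))
    (hpow : ∀ U : X.Opens, IsAffineOpen U → ∀ s : Γ(X', π ⁻¹ᵁ U), ∃ (e : ℕ) (t : Γ(X, U)), π.app U t = s ^ p ^ e)
    {U : X.Opens} (hU : IsCompact (U : Set X)) (s : Γ(X', π ⁻¹ᵁ U)) :
    ∃ (e : ℕ), ∀ E, e ≤ E → ∃ t : Γ(X, U), π.app U t = s ^ p ^ E := by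
  classical
  have hloc : ∀ y : U, ∃ V : X.Opens, IsAffineOpen V ∧ y.1 ∈ V ∧ V ≤ U := fun y => by
    obtain ⟨_, ⟨V, hV, rfl⟩, hyV, hVU⟩ :=
      X.isBasis_affineOpens.exists_subset_of_mem_open (show y.1 ∈ U from y.2) U.2
    exact ⟨V, hV, hyV, hVU⟩
  choose V hV hyV hVU using hloc
  obtain ⟨S, hS⟩ := hU.elim_finite_subcover (fun y => (V y : Set X)) (fun y => (V y).2)
    (fun x hx => Set.mem_iUnion.2 ⟨⟨x, hx⟩, hyV ⟨x, hx⟩⟩)
  choose e t ht using fun y => hpow (V y) (hV y) (ro (π.preimage_mono (hVU y)) s)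
  refine ⟨S.sup e, fun E hE => ?_⟩
  let W : S → X.Opens := fun y => V y.1
  let T : ∀ y : S, Γ(X, W y) := fun y => t y.1 ^ p ^ (E - e y.1)
  have hT : ∀ y : S, π.app (W y) (T y) = ro (π.preimage_mono (hVU y.1)) (s ^ p ^ E) := fun y => by
    show π.app _ (t y.1 ^ p ^ (E - e y.1)) = _
    rw [map_pow, ht, ← pow_mul, ← pow_add, Nat.add_sub_cancel' ((Finset.le_sup y.2).trans hE), ro_pow]
  have hc : U ≤ iSup W := fun x hx => by
    obtain ⟨y, hy, hxy⟩ := Set.mem_iUnion₂.1 (hS hx)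
    exact Opens.mem_iSup.2 ⟨⟨y, hy⟩, hxy⟩
  obtain ⟨t₀, ht₀, -⟩ := X.sheaf.existsUnique_gluing' W U (fun y => homOfLE (hVU y.1)) hc T fun a b => by
    refine hinj _ ?_
    show π.app _ (ro (inf_le_left : W a ⊓ W b ≤ W a) (T a)) = π.app _ (ro (inf_le_right : W a ⊓ W b ≤ W b) (T b))
    rw [app_ro, app_ro, hT, hT, ro_ro, ro_ro]
  refine ⟨t₀, Groth.L21.Extend.eq_of_locally (Coh.structureModule X') _ _ fun x hx => ?_⟩
  obtain ⟨y, hy⟩ := Opens.mem_iSup.1 (hc (show π.base x ∈ U from hx))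
  refine ⟨π ⁻¹ᵁ W y, π.preimage_mono (hVU y.1), hy, ?_⟩
  show ro (π.preimage_mono (hVU y.1)) (π.app U t₀) = ro (π.preimage_mono (hVU y.1)) (s ^ p ^ E)
  rw [← app_ro π (hVU y.1), ← hT]
  exact congrArg (π.app (W y)) (ht₀ y)

theorem exists_frame_preimage (hh : IsHomeomorph π.base) (M : X'.Modules) (hM : PicF.IsInvertible M) (x : X) :
    ∃ (V : X.Opens) (e : Γ(M, π ⁻¹ᵁ V)), IsAffineOpen V ∧ x ∈ V ∧ IsFrame M (π ⁻¹ᵁ V) e := by
  obtain ⟨z, rfl⟩ := hh.surjective x
  obtain ⟨W, e, hzW, he⟩ := Groth.L18.Frame.exists_frame hM z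
  obtain ⟨W', hW', hWW'⟩ := hh.isEmbedding.isInducing.isOpen_iff.1 W.2
  obtain ⟨_, ⟨V, hV, rfl⟩, hxV, hVW⟩ :=
    X.isBasis_affineOpens.exists_subset_of_mem_open (show π.base z ∈ W' from hWW'.ge hzW) hW'
  exact ⟨V, rs M (fun y hy => hWW'.le (hVW hy) : π ⁻¹ᵁ V ≤ W) e, hV, hxV, he.mono _⟩

theorem exists_descent (hh : IsHomeomorph π.base) [CompactSpace X] [QuasiSeparatedSpace X]
    (hinj' : ∀ U : X.Opens, IsAffineOpen U → Function.Injective (π.app U))
    (hpow : ∀ U : X.Opens, IsAffineOpen U → ∀ s : Γ(X', π ⁻¹ᵁ U), ∃ (e : ℕ) (t : Γ(X, U)), π.app U t = s ^ p ^ e)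
    (hp : 0 < p) {n : ℕ} (hn : 0 < n) (hco : p.Coprime n) (M : X'.Modules) (hM : PicF.IsInvertible M)
    (σ : CohB1.tensorPow M n ≅ Coh.structureModule X') :
    ∃ N : X.Modules, PicF.IsInvertible N ∧ Nonempty (CohB1.tensorPow N n ≅ Coh.structureModule X) ∧
      Nonempty ((Scheme.Modules.pullback π).obj N ≅ M) := by
  classical
  have hinj := app_injective hinj'
  choose V e hV hxV he using exists_frame_preimage hh M hM
  obtain ⟨S, hS⟩ := isCompact_univ.elim_finite_subcover (fun y : X => (V y : Set X)) (fun y => (V y).2)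
    (fun y _ => Set.mem_iUnion.2 ⟨y, hxV y⟩)
  let N : S → X.Opens := fun a => V a.1
  let ε : ∀ a : S, Γ(M, π ⁻¹ᵁ N a) := fun a => e a.1
  have hε : ∀ a, IsFrame M (π ⁻¹ᵁ N a) (ε a) := fun a => he a.1
  have hcov : ∀ y : X, ∃ a, y ∈ N a := fun y => by
    obtain ⟨z, hz, hyz⟩ := Set.mem_iUnion₂.1 (hS (Set.mem_univ y))
    exact ⟨⟨z, hz⟩, hyz⟩
  have hNc : ∀ a b, IsCompact ((N a ⊓ N b : X.Opens) : Set X) := fun a b =>
    QuasiSeparatedSpace.inter_isCompact _ _ (N a).2 (hV a.1).isCompact (N b).2 (hV b.1).isCompact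
  choose u hu' using fun q : S × S => (hε q.1).exists_coeff (π.preimage_mono (inf_le_left : N q.1 ⊓ N q.2 ≤ N q.1))
    (rs M (π.preimage_mono (inf_le_right : N q.1 ⊓ N q.2 ≤ N q.2)) (ε q.2))
  have huu : ∀ q, IsUnit (u q) := fun q =>
    Groth.L18.Frame.isUnit_of_isFrame ((hε q.1).mono _) (by rw [hu']; exact (hε q.2).mono _)
  -- the trivialisation of the power
  have h1 : ∀ a : S, IsFrame (Coh.structureModule X') (π ⁻¹ᵁ N a) (σ.hom.app (π ⁻¹ᵁ N a) (epow (ε a) n)) :=
    fun a => Groth.L19.ProjBdl.isFrame_of_iso σ (Groth.L20.ResDescent.isFrame_epow (hε a) n)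
  have hone : ∀ a : S, IsFrame (Coh.structureModule X') (π ⁻¹ᵁ N a) (1 : Γ(X', π ⁻¹ᵁ N a)) := fun a =>
    Groth.L02.PicTan.isFrame_one _
  choose s hs' using fun a => (hone a).exists_coeff le_rfl (σ.hom.app (π ⁻¹ᵁ N a) (epow (ε a) n))
  simp only [rs_self] at hs'
  have hsu : ∀ a, IsUnit (s a) := fun a => Groth.L18.Frame.isUnit_of_isFrame (hone a) (by rw [hs']; exact h1 a)
  have hus : ∀ q : S × S, u q ^ n * ro (π.preimage_mono (inf_le_left : N q.1 ⊓ N q.2 ≤ N q.1)) (s q.1) =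
      ro (π.preimage_mono (inf_le_right : N q.1 ⊓ N q.2 ≤ N q.2)) (s q.2) := fun q => by
    refine (hone q.1).inj (π.preimage_mono (inf_le_left : N q.1 ⊓ N q.2 ≤ N q.1)) ?_
    have e1 := congrArg (rs (Coh.structureModule X')
      (π.preimage_mono (inf_le_left : N q.1 ⊓ N q.2 ≤ N q.1))) (hs' q.1)
    have e2 := congrArg (rs (Coh.structureModule X')
      (π.preimage_mono (inf_le_right : N q.1 ⊓ N q.2 ≤ N q.2))) (hs' q.2)
    rw [rs_smul, ← Groth.L19.ProjBdl.app_rs σ.hom, epow_rs] at e1 e2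
    rw [rs_one] at e2
    rw [mul_smul, e1, rs_one, e2, ← hu' q, epow_smul, Scheme.Modules.Hom.app_smul]
  -- a uniform power
  have hpu : ∀ q : S × S, ∃ E₀, ∀ E, E₀ ≤ E → ∃ w : Γ(X, N q.1 ⊓ N q.2), π.app _ w = u q ^ p ^ E := fun q => by
    obtain ⟨E₀, h⟩ := exists_pow_of_isCompact hinj hpow (hNc q.1 q.2) (u q)
    exact ⟨E₀, h⟩
  have hps : ∀ a : S, ∃ E₀, ∀ E, E₀ ≤ E → ∃ t : Γ(X, N a), π.app _ t = s a ^ p ^ E ∧ IsUnit t := fun a => by
    obtain ⟨s', hs''⟩ := (hsu a).exists_right_inv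
    obtain ⟨E₀, h⟩ := exists_pow_of_isCompact hinj hpow (hV a.1).isCompact (s a)
    obtain ⟨E₁, h₁⟩ := exists_pow_of_isCompact hinj hpow (hV a.1).isCompact s'
    refine ⟨E₀ + E₁, fun E hE => ?_⟩
    obtain ⟨t, ht⟩ := h E (by omega)
    obtain ⟨t', ht'⟩ := h₁ E (by omega)
    exact ⟨t, ht, isUnit_of_app hinj ht ht' hs''⟩
  choose Eu hEu using hpu
  choose Es hEs using hps
  let E := Finset.univ.sup Eu + Finset.univ.sup Es
  choose w hw using fun q => hEu q E ((Finset.le_sup (Finset.mem_univ q)).trans (Nat.le_add_right _ _))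
  choose t ht htu using fun a => hEs a E ((Finset.le_sup (Finset.mem_univ a)).trans (Nat.le_add_left _ _))
  obtain ⟨c, m, hcm⟩ : ∃ c m : ℕ, p ^ E * c = 1 + n * m := by
    rcases Nat.lt_or_ge 1 n with h | h
    · obtain ⟨c, -, hc⟩ := Nat.exists_mul_mod_eq_one_of_coprime (Nat.Coprime.pow_left E hco) h
      exact ⟨c, p ^ E * c / n, by conv_lhs => rw [← Nat.mod_add_div (p ^ E * c) n, hc]⟩
    · obtain rfl : n = 1 := by omega
      exact ⟨1, p ^ E - 1, by
        have : 0 < p ^ E := Nat.pow_pos hp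
        omega⟩
  let g : ∀ q : S × S, Γ(X, N q.1 ⊓ N q.2) := fun q => w q ^ c
  have hg : ∀ q, π.app _ (g q) = u q * (u q ^ n) ^ m := fun q => by
    show π.app _ (w q ^ c) = _
    rw [map_pow, hw, ← pow_mul, hcm, pow_add, pow_one, pow_mul]
  have hgt : ∀ q : S × S, g q ^ n * ro (inf_le_left : N q.1 ⊓ N q.2 ≤ N q.1) (t q.1 ^ c) =
      ro (inf_le_right : N q.1 ⊓ N q.2 ≤ N q.2) (t q.2 ^ c) := fun q => hinj _ (by
    rw [map_mul, map_pow, app_ro, app_ro, show π.app _ (g q) = π.app _ (w q ^ c) from rfl, map_pow, map_pow,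
      map_pow, hw, ht, ht, ro_pow, ro_pow, ro_pow, ro_pow, ← pow_mul, ← pow_mul, ← pow_mul, ← pow_mul,
      show p ^ E * (c * n) = n * (p ^ E * c) by ring, pow_mul, ← mul_pow, hus q])
  let C : Cocycle X :=
    { ι := ULift.{u} S
      N := fun a => N a.down
      g := fun a b => g (a.down, b.down)
      one := fun a => hinj _ (by
        rw [hg, map_one]
        have : u (a.down, a.down) = 1 := (hε a.down).inj (π.preimage_mono inf_le_left) (by rw [one_smul, hu'])
        rw [this, one_pow, one_pow, one_mul])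
      comp := fun a b d => by
        let a := a.down
        let b := b.down
        let d := d.down
        let W := N a ⊓ N b ⊓ N d
        have hab : W ≤ N a ⊓ N b := inf_le_left
        have hbc : W ≤ N b ⊓ N d := inf_le_inf_right _ inf_le_right
        have hac : W ≤ N a ⊓ N d := inf_le_inf_right _ inf_le_left
        show ro hab (g (a, b)) * ro hbc (g (b, d)) = ro hac (g (a, d))
        refine hinj _ ?_
        have hcomp : ro (π.preimage_mono hab) (u (a, b)) * ro (π.preimage_mono hbc) (u (b, d)) =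
            ro (π.preimage_mono hac) (u (a, d)) := by
          refine (hε a).inj (π.preimage_mono (hac.trans inf_le_left)) ?_
          have e1 := congrArg (rs M (π.preimage_mono hab)) (hu' (a, b))
          have e2 := congrArg (rs M (π.preimage_mono hbc)) (hu' (b, d))
          have e3 := congrArg (rs M (π.preimage_mono hac)) (hu' (a, d))
          simp only [rs_smul, rs_rs] at e1 e2 e3
          rw [mul_comm, mul_smul, e1, e2, e3]
        rw [map_mul, app_ro, app_ro, app_ro, show π.app (N a ⊓ N b) (g (a, b)) = _ from hg (a, b),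
          show π.app (N b ⊓ N d) (g (b, d)) = _ from hg (b, d), show π.app (N a ⊓ N d) (g (a, d)) = _ from hg (a, d)]
        simp only [Groth.L18.Frame.ro_mul, ro_pow]
        rw [← hcomp]
        ring }
  refine ⟨glueMod C, isInvertible_glueMod C (fun y => (hcov y).imp' ULift.up fun _ h => h), ?_, ?_⟩
  · refine nonempty_iso_of_gens C.N (e := fun a => epow (gen C a) n) (e' := fun a : C.ι => t a.down ^ c • (1 : Γ(X, N a.down)))
      (fun a => Groth.L20.ResDescent.isFrame_epow (isGen_gen C a) n)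
      (fun a => (Groth.L02.PicTan.isFrame_one _).smul_unit ((htu a.down).pow c))
      (fun y => (hcov y).imp' ULift.up fun _ h => h) fun a b W ha hb d hd => ?_
    have h1 := congrArg (rs (glueMod C) (le_inf ha hb)) (gen_trans C a b)
    rw [rs_smul, rs_rs, rs_rs] at h1
    replace hd : d • rs (CohB1.tensorPow (glueMod C) n) ha (epow (gen C a) n) =
        rs (CohB1.tensorPow (glueMod C) n) hb (epow (gen C b) n) := hd
    rw [epow_rs, epow_rs, h1, epow_smul] at hd
    have h2 : d = ro (le_inf ha hb) (g (a.down, b.down)) ^ n := by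
      refine (Groth.L20.ResDescent.isFrame_epow (isGen_gen C a) n).inj ha ?_
      rw [epow_rs]
      exact hd
    show d • rs (Coh.structureModule X) ha (t a.down ^ c • (1 : Γ(X, N a.down))) =
      rs (Coh.structureModule X) hb (t b.down ^ c • (1 : Γ(X, N b.down)))
    have h3 := congrArg (ro (le_inf ha hb)) (hgt (a.down, b.down))
    rw [Groth.L18.Frame.ro_mul, ro_pow (le_inf ha hb) (g (a.down, b.down)), ro_ro, ro_ro] at h3
    rw [rs_smul, rs_smul, rs_one, rs_one, smul_smul, h2, h3]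
  · refine nonempty_iso_of_gens (fun a : C.ι => π ⁻¹ᵁ C.N a) (e := fun a => pull π (glueMod C) (C.N a) (gen C a))
      (e' := fun a : C.ι => s a.down ^ m • ε a.down)
      (fun a => Groth.L18.Frame.IsFrame.pullback π (glueMod C) (isGen_gen C a))
      (fun a => (hε a.down).smul_unit ((hsu a.down).pow m))
      (fun x => (hcov (π x)).imp' ULift.up fun _ h => h) fun a b W ha hb d hd => ?_
    have h1 := congrArg (pull π (glueMod C) (C.N a ⊓ C.N b)) (gen_trans C a b)
    rw [pull_smul] at h1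
    have h2 := congrArg (rs ((Scheme.Modules.pullback π).obj (glueMod C))
      (le_inf ha hb : W ≤ π ⁻¹ᵁ (C.N a ⊓ C.N b))) h1
    have e1 : pull π (glueMod C) (C.N a ⊓ C.N b) (Groth.L21.Extend.rs (glueMod C) inf_le_right (gen C b)) =
        rs _ (π.preimage_mono inf_le_right) (pull π (glueMod C) (C.N b) (gen C b)) := (pull_rs π _ _ _).symm
    have e2 : pull π (glueMod C) (C.N a ⊓ C.N b) (Groth.L21.Extend.rs (glueMod C) inf_le_left (gen C a)) =
        rs _ (π.preimage_mono inf_le_left) (pull π (glueMod C) (C.N a) (gen C a)) := (pull_rs π _ _ _).symm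
    rw [e1, e2, rs_rs, rs_smul, rs_rs] at h2
    have h3 : d = ro (le_inf ha hb : W ≤ π ⁻¹ᵁ (N a.down ⊓ N b.down))
        (u (a.down, b.down) * (u (a.down, b.down) ^ n) ^ m) := by
      refine (Groth.L18.Frame.IsFrame.pullback π (glueMod C) (isGen_gen C a)).inj ha ?_
      rw [← hg (a.down, b.down)]
      exact hd.trans h2
    have h4 := congrArg (rs M (le_inf ha hb : W ≤ π ⁻¹ᵁ (N a.down ⊓ N b.down))) (hu' (a.down, b.down))
    rw [rs_smul, rs_rs, rs_rs] at h4
    have h5 := congrArg (fun z => z ^ m) (congrArg (ro (le_inf ha hb : W ≤ π ⁻¹ᵁ (N a.down ⊓ N b.down))) (hus (a.down, b.down)))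
    simp only [Groth.L18.Frame.ro_mul, ro_pow, ro_ro, mul_pow] at h5
    show d • rs M ha (s a.down ^ m • ε a.down) = rs M hb (s b.down ^ m • ε b.down)
    rw [rs_smul, rs_smul, h3, Groth.L18.Frame.ro_mul, ro_pow, ro_pow, ro_pow, ro_pow, smul_smul,
      mul_assoc, h5, mul_comm, mul_smul, h4]

end Groth.L02.PicInsep
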