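import Mathlib.AlgebraicGeometry.Morphisms.Flat
import Mathlib.AlgebraicGeometry.Morphisms.Integral
import Mathlib.AlgebraicGeometry.Morphisms.UniversallyInjective
import Mathlib.RingTheory.Spectrum.Prime.Homeomorph
import Mathlib.RingTheory.Flat.Basic

/-!
Functions on the base change of a scheme along a purely inseparable extension.
-/

set_option autoImplicit false
set_option linter.style.haveILetI false
set_option backward.isDefEq.respectTransparency false

universe u

open CategoryTheory CategoryTheory.Limits AlgebraicGeometry TopologicalSpace TensorProduct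

noncomputable section

namespace Groth.L02.PicInsep

variable {k : Type u} [Field k] {k' : Type u} [Field k'] [Algebra k k'] {X : Scheme.{u}}
  (f : X ⟶ Spec (CommRingCat.of k))

theorem algebraic_facts (A : Type u) [CommRing A] [Algebra k A] [IsPurelyInseparable k k'] (p : ℕ) [Fact p.Prime]
    [CharP k p] :
    Function.Injective (algebraMap A (A ⊗[k] k')) ∧
      ∀ s : A ⊗[k] k', ∃ (e : ℕ) (t : A), algebraMap A (A ⊗[k] k') t = s ^ p ^ e := by
  haveI : ExpChar k p := ExpChar.prime (Fact.out : p.Prime)
  refine ⟨Algebra.TensorProduct.includeLeft_injective (S := A) (algebraMap k k').injective, fun s => ?_⟩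
  obtain ⟨e, t, ht⟩ := IsPurelyInseparable.exists_pow_pow_mem_range_tensorProduct_of_expChar (R := A) p s
  exact ⟨e, t, ht⟩

theorem facts_of_isPushout [IsPurelyInseparable k k'] (p : ℕ) [Fact p.Prime] [CharP k p]
    {K A K' P : CommRingCat.{u}} {a : K ⟶ A} {c : K ⟶ K'} {l : A ⟶ P} {r : K' ⟶ P}
    (h : IsPushout a c l r) (eK : CommRingCat.of k ≅ K) (eK' : CommRingCat.of k' ≅ K')
    (hc : eK.hom ≫ c = CommRingCat.ofHom (algebraMap k k') ≫ eK'.hom) :
    Function.Injective l ∧ ∀ s : P, ∃ (e : ℕ) (t : A), l t = s ^ p ^ e := by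
  letI : Algebra k A := (eK.hom ≫ a).hom.toAlgebra
  have h1 : IsPushout (CommRingCat.ofHom (algebraMap k A)) (CommRingCat.ofHom (algebraMap k k')) l (eK'.hom ≫ r) :=
    h.of_iso eK.symm (Iso.refl _) eK'.symm (Iso.refl _)
      (by simp [RingHom.algebraMap_toAlgebra])
      (by
        rw [Iso.symm_hom, ← cancel_epi eK.hom, ← Category.assoc, hc]
        simp)
      (by simp) (by simp)
  have h2 := CommRingCat.isPushout_tensorProduct k A k'
  let ψ := h2.isoIsPushout _ _ h1
  have hl : CommRingCat.ofHom (Algebra.TensorProduct.includeLeftRingHom) ≫ ψ.hom = l :=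
    h2.inl_isoIsPushout_hom _ _ h1
  obtain ⟨hi, hp⟩ := algebraic_facts (k := k) (k' := k') A p
  refine ⟨?_, fun s => ?_⟩
  · intro x y hxy
    rw [← hl] at hxy
    exact hi ((ConcreteCategory.bijective_of_isIso ψ.hom).1 hxy)
  · obtain ⟨e, t, ht⟩ := hp (ψ.inv s)
    refine ⟨e, t, ?_⟩
    rw [← hl]
    show ψ.hom (algebraMap A (A ⊗[k] k') t) = _
    rw [ht, map_pow]
    congr 1
    exact congr($(ψ.inv_hom_id) s)

theorem app_facts [IsPurelyInseparable k k'] (p : ℕ) [Fact p.Prime] [CharP k p] (U : X.Opens) (hU : IsAffineOpen U) :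
    Function.Injective ((pullback.fst f (Spec.map (CommRingCat.ofHom (algebraMap k k')))).app U) ∧
      ∀ s, ∃ (e : ℕ) (t : Γ(X, U)),
        (pullback.fst f (Spec.map (CommRingCat.ofHom (algebraMap k k')))).app U t = s ^ p ^ e := by
  let g := Spec.map (CommRingCat.ofHom (algebraMap k k'))
  let P := pullback f g
  have H : IsPullback (pullback.fst f g) (pullback.snd f g) f g := IsPullback.of_hasPullback f g
  have hT := isAffineOpen_top (Spec (CommRingCat.of k'))
  have hS := isAffineOpen_top (Spec (CommRingCat.of k))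
  have hUY : (pullback.fst f g) ⁻¹ᵁ U = (pullback.fst f g) ⁻¹ᵁ U ⊓ (pullback.snd f g) ⁻¹ᵁ (⊤ : (Spec (CommRingCat.of k')).Opens) := by
    simp
  haveI := isIso_pushoutSection_of_isAffineOpen (US := ⊤) (UT := ⊤) (UX := U) H (le_top) (le_top) hUY hS hT hU
  have hp := (isIso_pushoutSection_iff H le_top le_top hUY).1 this
  have h := facts_of_isPushout (k := k) (k' := k') p hp (Scheme.ΓSpecIso (CommRingCat.of k)).symm
    (Scheme.ΓSpecIso (CommRingCat.of k')).symm (by
      rw [Scheme.Hom.appLE]
      simp only [Iso.symm_hom]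
      rw [← Category.assoc, Scheme.ΓSpecIso_inv_naturality]
      simp
      rfl)
  have e1 : (pullback.fst f g).appLE U ((pullback.fst f g) ⁻¹ᵁ U) le_rfl = (pullback.fst f g).app U :=
    (Scheme.Hom.app_eq_appLE _).symm
  rw [← e1]
  exact h

theorem isHomeomorph_fst [IsPurelyInseparable k k'] :
    IsHomeomorph (pullback.fst f (Spec.map (CommRingCat.ofHom (algebraMap k k')))).base := by
  let g := Spec.map (CommRingCat.ofHom (algebraMap k k'))
  haveI : IsIntegralHom g := (IsIntegralHom.SpecMap_iff).2
    (algebraMap_isIntegral_iff.2 (inferInstance : Algebra.IsIntegral k k'))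
  haveI : Surjective g := ⟨fun x => ⟨⟨⊥, Ideal.isPrime_bot⟩, Subsingleton.elim _ _⟩⟩
  haveI : UniversallyInjective g := ((tfae_universallyInjective g).out 0 1).mpr fun K hK g₁ g₂ h => by
    letI := hK
    obtain ⟨φ₁, rfl⟩ := Spec.map_surjective g₁
    obtain ⟨φ₂, rfl⟩ := Spec.map_surjective g₂
    simp only [g, ← Spec.map_comp] at h
    congr 1
    refine CommRingCat.hom_ext (IsPurelyInseparable.injective_comp_algebraMap k k' K ?_)
    exact congrArg CommRingCat.Hom.hom (Spec.map_injective h)
  haveI : UniversallyInjective (pullback.fst f g) := MorphismProperty.pullback_fst _ _ inferInstance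
  exact isHomeomorph_iff_continuous_isClosedMap_bijective.2 ⟨(pullback.fst f g).continuous,
    (pullback.fst f g).isClosedMap, (pullback.fst f g).injective, (pullback.fst f g).surjective⟩

end Groth.L02.PicInsep
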